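import Mathlib
import Groth.Agent.S2091
import Groth.Agent.S9442

/-!
Generic smoothness over a perfect function field.
-/

set_option autoImplicit false
universe u

namespace Groth.Agent.GenSmoothPerf

open AlgebraicGeometry CategoryTheory IsLocalRing TensorProduct

/-- Over a perfect field smoothness at a point is regularity. -/
theorem isSmoothAt_iff_regular {k S : Type u} [Field k] [PerfectField k] [CommRing S] [Algebra k S]
    [Algebra.FiniteType k S] (q : Ideal S) [q.IsPrime] :
    Algebra.IsSmoothAt k q ↔ IsRegularLocalRing (Localization.AtPrime q) := by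
  haveI : Algebra.IsGeometricallyReduced k q.ResidueField :=
    Groth.Agent.GeomRedPtLib.isGeometricallyReduced_of_pinsep k q.ResidueField fun k' _ _ _ _ => by
      haveI : Algebra.IsSeparable k k' := inferInstance
      have hs : Function.Surjective (algebraMap k k') := IsPurelyInseparable.surjective_algebraMap_of_isSeparable k k'
      let e₀ : k ≃ₐ[k] k' := AlgEquiv.ofBijective (Algebra.ofId k k') ⟨(algebraMap k k').injective, hs⟩
      exact isReduced_of_injective
        ((Algebra.TensorProduct.congr AlgEquiv.refl e₀.symm).trans (Algebra.TensorProduct.rid k k q.ResidueField))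
        (AlgEquiv.injective _)
  exact Groth.Agent.S9442.result k S q

theorem isSmoothAt_of_regular {A B : Type u} [CommRing A] [IsDomain A] [PerfectField (FractionRing A)] [CommRing B] [Algebra A B]
    [Algebra.FiniteType A B] (q : Ideal B) [q.IsPrime] (hq : q.comap (algebraMap A B) = ⊥)
    [IsRegularLocalRing (Localization.AtPrime q)] : Algebra.IsSmoothAt A q := by
  let K := FractionRing A
  let T := K ⊗[A] B
  letI : Algebra B T := Algebra.TensorProduct.rightAlgebra
  haveI : IsScalarTower A B T := .of_algebraMap_eq' (by
    ext a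
    exact Algebra.TensorProduct.tmul_one_eq_one_tmul a)
  let M := Algebra.algebraMapSubmonoid B (nonZeroDivisors A)
  haveI : IsLocalization M T := inferInstance
  have hd : Disjoint (M : Set B) (q : Set B) := by
    rw [Set.disjoint_left]
    rintro _ ⟨a, ha, rfl⟩ hmem
    have h0 : a ∈ q.comap (algebraMap A B) := hmem
    rw [hq, Ideal.mem_bot] at h0
    exact nonZeroDivisors.ne_zero ha h0
  let q' : Ideal T := q.map (algebraMap B T)
  haveI : q'.IsPrime := IsLocalization.isPrime_of_isPrime_disjoint M T q ‹_› hd
  have hc : q'.comap (algebraMap B T) = q := IsLocalization.under_map_of_isPrime_disjoint M T ‹_› hd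
  haveI : IsLocalization.AtPrime (Localization.AtPrime q') q := by
    have h := IsLocalization.isLocalization_isLocalization_atPrime_isLocalization M
      (Localization.AtPrime q') q'
    simp only [Ideal.under_def, hc] at h
    exact h
  let e : Localization.AtPrime q' ≃ₐ[B] Localization.AtPrime q := IsLocalization.algEquiv q.primeCompl _ _
  haveI : IsRegularLocalRing (Localization.AtPrime q') := IsRegularLocalRing.of_ringEquiv e.symm.toRingEquiv
  haveI hs : Algebra.IsSmoothAt K q' := (isSmoothAt_iff_regular (k := K) q').2 inferInstance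
  haveI : Algebra.FormallySmooth A K := Algebra.FormallySmooth.of_isLocalization (nonZeroDivisors A)
  haveI : Algebra.FormallySmooth K (Localization.AtPrime q') := hs
  haveI : Algebra.FormallySmooth A (Localization.AtPrime q') := Algebra.FormallySmooth.comp A K _
  exact Algebra.FormallySmooth.of_equiv (R := A) (A := Localization.AtPrime q') (B := Localization.AtPrime q) (e.restrictScalars A)

theorem mem_smoothLocus_of_regular {X Y : Scheme.{u}} [IsIntegral Y] [PerfectField Y.functionField]
    (f : X ⟶ Y) [LocallyOfFinitePresentation f] (x : X)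
    (hx : f x = genericPoint Y) [IsRegularLocalRing (X.presheaf.stalk x)] : x ∈ f.smoothLocus := by
  obtain ⟨U, hU, hxU, -⟩ := exists_isAffineOpen_mem_and_subset (X := Y) (x := f x) (U := ⊤) trivial
  obtain ⟨V, hV, hxV, hVU⟩ := exists_isAffineOpen_mem_and_subset (X := X) (x := x) (U := f ⁻¹ᵁ U) hxU
  haveI : Nonempty U := ⟨⟨_, hxU⟩⟩
  have hfp := f.finitePresentation_appLE hU hV hVU
  haveI := functionField_isFractionRing_of_isAffineOpen Y U hU
  haveI : PerfectField (FractionRing Γ(Y, U)) :=
    PerfectField.of_ringEquiv (IsLocalization.algEquiv (nonZeroDivisors Γ(Y, U)) Y.functionField (FractionRing Γ(Y, U))).toRingEquiv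
  algebraize [(f.appLE U V hVU).hom]
  rw [Scheme.Hom.mem_smoothLocus, formallySmooth_stalkMap_iff U hU V hV hVU hxV]
  let q := hV.primeIdealOf ⟨x, hxV⟩
  letI : Algebra Γ(X, V) (X.presheaf.stalk x) := TopCat.Presheaf.algebra_section_stalk X.presheaf ⟨x, hxV⟩
  haveI : IsLocalization.AtPrime (X.presheaf.stalk x) q.asIdeal := hV.isLocalization_stalk ⟨x, hxV⟩
  haveI : IsRegularLocalRing (Localization.AtPrime q.asIdeal) := IsRegularLocalRing.of_ringEquiv
    (IsLocalization.algEquiv q.asIdeal.primeCompl (X.presheaf.stalk x) (Localization.AtPrime q.asIdeal)).toRingEquiv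
  refine isSmoothAt_of_regular q.asIdeal ?_
  have hp := IsAffineOpen.comap_primeIdealOf_appLE U hU V hV hVU hxV
  have h1 : hU.primeIdealOf ⟨f x, hxU⟩ = (⊥ : PrimeSpectrum Γ(Y, U)) := by
    rw [show (⟨f x, hxU⟩ : U) = ⟨genericPoint Y, hx ▸ hxU⟩ from Subtype.ext hx,
      hU.primeIdealOf_genericPoint, genericPoint_eq_bot_of_affine]
  exact (congrArg PrimeSpectrum.asIdeal (hp.trans h1))

end Groth.Agent.GenSmoothPerf
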